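import Cfsg.Agent.Lib.Co2Type.Rank3.Main
import Cfsg.Agent.Lib.OctadInv.Co2Cent

/-!
The rank three subgroup in every copy of the second Conway group.
-/

set_option autoImplicit false

noncomputable section

namespace Cfsg.Agent.Co2Type.Rank3

open Cfsg Cfsg.Agent.LeechAut Cfsg.Agent.LeechAut.Basic Cfsg.Agent.GroupStructure3.Co222

/-- Transport of a maximal subgroup with two orbit lengths along an isomorphism. -/
theorem transport {A G : Type*} [Group A] [Group G] (e : A ≃* G) {n m₁ m₂ : ℕ}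
    (h : ∃ K : Subgroup A, IsCoatom K ∧ K.index = n ∧
      ∃ q₁ q₂ : A ⧸ K, (MulAction.orbit K q₁).ncard = m₁ ∧ (MulAction.orbit K q₂).ncard = m₂) :
    ∃ H : Subgroup G, IsCoatom H ∧ H.index = n ∧
      ∃ q₁ q₂ : G ⧸ H, (MulAction.orbit H q₁).ncard = m₁ ∧ (MulAction.orbit H q₂).ncard = m₂ := by
  obtain ⟨K, hK, hi, q₁, q₂, h1, h2⟩ := h
  refine ⟨K.map e.toMonoidHom, ?_, ?_, ?_⟩
  · exact (OrderIso.isCoatom_iff e.mapSubgroup K).2 hK
  · rw [← hi]
    exact Subgroup.index_map_equiv K e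
  let H := K.map e.toMonoidHom
  let f : A ⧸ K → G ⧸ H := Quotient.map' e fun a b hab => by
    rw [QuotientGroup.leftRel_apply] at hab ⊢
    rw [← map_inv, ← map_mul]
    exact ⟨_, hab, rfl⟩
  have hf : ∀ a : A, f (a : A ⧸ K) = ((e a : G) : G ⧸ H) := fun a => rfl
  have hfi : Function.Injective f := by
    intro p q hpq
    induction p using QuotientGroup.induction_on with | _ a => ?_
    induction q using QuotientGroup.induction_on with | _ b => ?_
    rw [hf, hf, QuotientGroup.eq, ← map_inv, ← map_mul] at hpq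
    obtain ⟨c, hc, hce⟩ := hpq
    exact QuotientGroup.eq.2 (e.injective hce ▸ hc)
  have horb : ∀ q : A ⧸ K, f '' MulAction.orbit K q = MulAction.orbit H (f q) := by
    intro q
    induction q using QuotientGroup.induction_on with | _ a => ?_
    ext u
    constructor
    · rintro ⟨_, ⟨k, rfl⟩, rfl⟩
      refine ⟨⟨e k.1, ⟨k.1, k.2, rfl⟩⟩, ?_⟩
      show ((e k.1 * e a : G) : G ⧸ H) = ((e (k.1 * a) : G) : G ⧸ H)
      rw [map_mul]
    · rintro ⟨⟨_, k, hk, rfl⟩, rfl⟩
      refine ⟨_, ⟨⟨k, hk⟩, rfl⟩, ?_⟩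
      show ((e (k * a) : G) : G ⧸ H) = ((e k * e a : G) : G ⧸ H)
      rw [map_mul]
  exact ⟨f q₁, f q₂, by rw [← horb, Set.ncard_image_of_injective _ hfi, h1],
    by rw [← horb, Set.ncard_image_of_injective _ hfi, h2]⟩

/-- The second Conway group is the stabiliser of the first vertex. -/
theorem nonempty_equiv_A : Nonempty (A ≃* ↥Cfsg.Spor.Co2) := by
  obtain ⟨E⟩ := OctadInv.Co2Cent.nonempty_equiv
  obtain ⟨g, hg⟩ := Cfsg.Agent.LeechAut.Shells.transitive32 vv OctadInv.Co2Cent.v dot_vw.1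
    OctadInv.Co2Cent.sqNorm_v
  obtain ⟨E'⟩ := Conway23.stab_equiv hg
  exact ⟨E'.trans E.symm⟩

/-- The rank three subgroup. -/
theorem of_iso {G : Type*} [Group G] (h : Nonempty (G ≃* ↥Cfsg.Spor.Co2)) :
    ∃ H : Subgroup G, IsCoatom H ∧ H.index = 2300 ∧
      ∃ q₁ q₂ : G ⧸ H, (MulAction.orbit H q₁).ncard = 891 ∧ (MulAction.orbit H q₂).ncard = 1408 := by
  obtain ⟨e⟩ := h
  obtain ⟨E⟩ := nonempty_equiv_A
  exact transport (E.trans e.symm) rank_three

end Cfsg.Agent.Co2Type.Rank3
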