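import Cfsg.Agent.GroupStructure3.Co222.Check
import Cfsg.Agent.Lib.Co2Type.Rank3.Data

/-!
Tests on the two suborbit tables.
-/

set_option autoImplicit false
set_option maxRecDepth 10000

namespace Cfsg.Agent.Co2Type.Rank3

open Cfsg.Agent.GroupStructure3.McLInv (allB allB_spec)
open Cfsg.Agent.GroupStructure3.Co222
open Cfsg.Agent.Lib.PcMult.Leech (mapL)
open Cfsg.Agent.LeechAut.Gens (inLat vec)

/-- A plane of the tree. -/
def po (i : ℕ) : ℕ := (plOrd >>> (10 * i)) % 1024

/-- The generator leading to a plane of the tree. -/
def pg (i : ℕ) : ℕ := (plGen >>> (4 * i)) % 16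

/-- The position of the parent of a plane. -/
def pp (i : ℕ) : ℕ := (plPar >>> (10 * i)) % 1024

/-- A representative of the second suborbit. -/
def sv (j : ℕ) : List ℤ :=
  let c := (secVec >>> (96 * j)) % 2 ^ 96
  (List.range 24).map fun t => (((c >>> (4 * t)) % 16 : ℕ) : ℤ) - 8

/-- The generator leading to a representative. -/
def sg (j : ℕ) : ℕ := (secGen >>> (4 * j)) % 16

/-- The parent of a representative. -/
def sp (j : ℕ) : ℕ := (secPar >>> (11 * j)) % 2048

/-- A representative by increasing code. -/
def so (j : ℕ) : ℕ := (secOrd >>> (11 * j)) % 2048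

/-- The partner of a representative. -/
def opp (l : List ℤ) : List ℤ := (List.range 24).map fun i => -vL.getD i 0 - l.getD i 0

/-- The code of a pair. -/
def pairKey (l : List ℤ) : ℕ := min (enc l) (enc (opp l))

/-- The product of two lists. -/
def dotL (a l : List ℤ) : ℤ := ((List.range 24).map fun i => a.getD i 0 * l.getD i 0).sum

/-- The test of a plane of the tree. -/
def plB (i : ℕ) : Bool :=
  decide (po i < 891) &&
    (i == 0 || decide (pg i < 6) && decide (pp i < i) && plI (pg i) (po (pp i)) == po i)

/-- The test of a representative. -/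
def secB (j : ℕ) : Bool :=
  (sv j).length == 24 && inLat (vec (sv j)) && dotL wL (sv j) == 8 &&
    (dotL vL (sv j) == -16) && (dotL (sv j) (sv j) == 32) &&
    decide (so j < 1408) && (j == 0 || decide (pairKey (sv (so (j - 1))) < pairKey (sv (so j)))) &&
    (j == 0 || decide (sg j < 6) && decide (sp j < j) &&
      (mapL (sv (sp j)) (gm (sg j)) == (sv j).map (fun x => 8 * x) ||
        mapL (sv (sp j)) (gm (sg j)) == (opp (sv j)).map (fun x => 8 * x)))

theorem pl_ok : (allB 891 fun i => plB i && decide (po i < 891)) = true := by decide +kernel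

theorem lv_dots : (allB 891 fun k => dotL vL (lv k) == 16 && dotL wL (lv k) == 0 &&
    dotL (lv k) (lv k) == 32) = true := by decide +kernel

theorem sec_ok0 : (allB 352 fun j => secB j) = true := by decide +kernel

theorem sec_ok1 : (allB 352 fun j => secB (352 + j)) = true := by decide +kernel

theorem sec_ok2 : (allB 352 fun j => secB (704 + j)) = true := by decide +kernel

theorem sec_ok3 : (allB 352 fun j => secB (1056 + j)) = true := by decide +kernel

theorem sec_spec {j : ℕ} (hj : j < 1408) : secB j = true := by
  by_cases h1 : j < 352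
  · exact allB_spec sec_ok0 j h1
  by_cases h2 : j < 704
  · have := allB_spec sec_ok1 (j - 352) (by omega)
    rwa [show 352 + (j - 352) = j by omega] at this
  by_cases h3 : j < 1056
  · have := allB_spec sec_ok2 (j - 704) (by omega)
    rwa [show 704 + (j - 704) = j by omega] at this
  · have := allB_spec sec_ok3 (j - 1056) (by omega)
    rwa [show 1056 + (j - 1056) = j by omega] at this

theorem pl_spec {i : ℕ} (hi : i < 891) : plB i = true := by
  have := allB_spec pl_ok i hi
  rw [Bool.and_eq_true] at this
  exact this.1

/-- The set of the first planes of the tree, as a bit mask. -/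
def plMask : ℕ → ℕ
  | 0 => 0
  | n + 1 => plMask n ||| (1 <<< po n)

theorem plMask_full : plMask 891 = 2 ^ 891 - 1 := by decide +kernel

theorem exists_of_testBit : ∀ {n k : ℕ}, (plMask n).testBit k = true → ∃ i < n, po i = k
  | 0, k, h => by simp [plMask] at h
  | n + 1, k, h => by
    rw [plMask, Nat.testBit_or, Bool.or_eq_true, Nat.one_shiftLeft, Nat.testBit_two_pow,
      decide_eq_true_eq] at h
    rcases h with h | h
    · obtain ⟨i, hi, e⟩ := exists_of_testBit h
      exact ⟨i, Nat.lt_succ_of_lt hi, e⟩
    · exact ⟨n, Nat.lt_succ_self n, h⟩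

/-- Every plane occurs in the tree. -/
theorem pl_cover {k : ℕ} (hk : k < 891) : ∃ i < 891, po i = k :=
  exists_of_testBit (by rw [plMask_full, Nat.testBit_two_pow_sub_one, decide_eq_true hk])

end Cfsg.Agent.Co2Type.Rank3
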