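import Cfsg.Agent.GroupStructure3.Co222.Main
import Cfsg.Agent.Lib.Co2Type.Rank3.Check
import Cfsg.Agent.Lib.LeechAut.Conway23

/-!
The action of the stabiliser of a minimal vector on the 2300 pairs of minimal vectors summing to its
negative: a maximal subgroup of index 2300 with suborbits of sizes 891 and 1408.
-/

set_option autoImplicit false
set_option maxRecDepth 10000

noncomputable section

namespace Cfsg.Agent.Co2Type.Rank3

open scoped Pointwise
open Cfsg Cfsg.Agent.Leech.Index Cfsg.Agent.Leech.Basic Cfsg.Agent.LeechAut Cfsg.Agent.LeechAut.Basic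
open Cfsg.Agent.GroupStructure3.Co222 hiding H
open Cfsg.Agent.GroupStructure3.McLInv (allB allB_spec)
open Cfsg.Agent.Lib.PcMult.Leech (mapL elem)
open Cfsg.Agent.Golay.Basic (ix pt ix_lt pt_ix ix_pt)

local notation "lvec" => Cfsg.Agent.LeechAut.Gens.vec

/-- The stabiliser of the first vertex. -/
abbrev A : Subgroup Co0 := MulAction.stabilizer Co0 vv

/-- The pair of a vector. -/
def pr (x : leechLattice) : Set leechLattice := {x, -vv - x}

theorem smul_pr (g : A) (x : leechLattice) : g • pr x = pr (g • x) := by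
  have h : g • (-vv - x) = -vv - g • x := by
    show (g : Co0) • (-vv - x) = -vv - (g : Co0) • x
    rw [smul_sub', smul_neg', show (g : Co0) • vv = vv from g.2]
  rw [pr, pr, Set.smul_set_insert, Set.smul_set_singleton, h]

theorem pr_opp (x : leechLattice) : pr (-vv - x) = pr x := by
  rw [pr, pr, sub_sub_cancel, Set.pair_comm]

/-- The stabiliser of the base pair. -/
abbrev H : Subgroup A := MulAction.stabilizer A (pr ww)

theorem dot_lvec (a l : List ℤ) : dotInt (lvec a) (lvec l) = dotL a l := by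
  show ∑ p, lvec a p * lvec l p = _
  rw [← Gens.sum_range (fun p => lvec a p * lvec l p), dotL]
  congr 1

theorem sqNorm_eq_dot (x : Vec) : sqNorm x = dotInt x x := by
  simp only [sqNorm, dotInt, pow_two]

theorem dot_comm (x y : Vec) : dotInt x y = dotInt y x := by
  simp only [dotInt, mul_comm]

theorem dot_neg (x y : Vec) : dotInt x (-y) = -dotInt x y := by
  simp only [dotInt, Pi.neg_apply, mul_neg, Finset.sum_neg_distrib]

theorem dot_opp (x : Vec) (y : leechLattice) :
    dotInt x ((-vv - y : leechLattice) : Vec) = -dotInt x (vv : Vec) - dotInt x (y : Vec) := by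
  simp only [dotInt, AddSubgroup.coe_sub, NegMemClass.coe_neg, Pi.sub_apply, Pi.neg_apply, mul_sub,
    mul_neg, Finset.sum_sub_distrib, Finset.sum_neg_distrib]

theorem dot_opp_left (x : leechLattice) (y : Vec) :
    dotInt ((-vv - x : leechLattice) : Vec) y = -dotInt (vv : Vec) y - dotInt (x : Vec) y := by
  simp only [dotInt, AddSubgroup.coe_sub, NegMemClass.coe_neg, Pi.sub_apply, Pi.neg_apply, sub_mul,
    neg_mul, Finset.sum_sub_distrib, Finset.sum_neg_distrib]

/-- The product of the base pair with a pair is zero somewhere. -/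
def Meets (s : Set leechLattice) : Prop :=
  ∃ a ∈ pr ww, ∃ z ∈ s, dotInt (a : Vec) (z : Vec) = 0

theorem meets_smul {h : A} (hh : h ∈ H) {s : Set leechLattice} (hs : Meets s) : Meets (h • s) := by
  obtain ⟨a, ha, z, hz, e⟩ := hs
  refine ⟨h • a, ?_, h • z, Set.smul_mem_smul_set hz, ?_⟩
  · rw [← MulAction.mem_stabilizer_iff.1 hh]
    exact Set.smul_mem_smul_set ha
  · show dotInt (((h : Co0) • a : leechLattice) : Vec) (((h : Co0) • z : leechLattice) : Vec) = 0
    rw [dot_smul, e]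

theorem meets_orbit {s u : Set leechLattice} (hu : u ∈ MulAction.orbit H s) : Meets u ↔ Meets s := by
  obtain ⟨⟨h, hh⟩, rfl⟩ := hu
  refine ⟨fun e => ?_, meets_smul hh⟩
  have e' : Meets (h • s) := e
  have := meets_smul (inv_mem hh) e'
  rwa [inv_smul_smul] at this

/-- A generator. -/
def gA (g : Fin 6) : A := ⟨gC g, (gens_spec g).2.2.1⟩

theorem gA_mem (g : Fin 6) : gA g ∈ H := by
  rw [MulAction.mem_stabilizer_iff, smul_pr]
  congr 1
  exact (gens_spec g).2.2.2

/-- A vector of the first suborbit. -/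
def x₁ (k : Fin 891) : leechLattice := -Lv k

theorem sv_props {j : ℕ} (hj : j < 1408) :
    (sv j).length = 24 ∧ Gens.inLat (lvec (sv j)) = true ∧ dotL wL (sv j) = 8 ∧ dotL vL (sv j) = -16 ∧
      dotL (sv j) (sv j) = 32 ∧ so j < 1408 ∧
      (j ≠ 0 → pairKey (sv (so (j - 1))) < pairKey (sv (so j))) ∧
      (j ≠ 0 → sg j < 6 ∧ sp j < j ∧
        (mapL (sv (sp j)) (gm (sg j)) = (sv j).map (fun x => 8 * x) ∨
          mapL (sv (sp j)) (gm (sg j)) = (opp (sv j)).map (fun x => 8 * x))) := by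
  have h := sec_spec hj
  simp only [secB, Bool.and_eq_true, Bool.or_eq_true, beq_iff_eq, decide_eq_true_eq] at h
  obtain ⟨⟨⟨⟨⟨⟨⟨h1, h2⟩, h3⟩, h4⟩, h5⟩, h6⟩, h7⟩, h8⟩ := h
  refine ⟨h1, h2, h3, h4, h5, h6, fun hne => h7.resolve_left hne, fun hne => ?_⟩
  obtain ⟨⟨h9, h10⟩, h11⟩ := h8.resolve_left hne
  exact ⟨h9, h10, h11⟩

/-- A vector of the second suborbit. -/
def x₂ (j : Fin 1408) : leechLattice := ⟨lvec (sv j), Gens.mem_of_inLat (sv_props j.2).2.1⟩

theorem opp_vec (l : List ℤ) : lvec (opp l) = -lvec vL - lvec l := by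
  funext p
  have hp := ix_lt p
  simp [Gens.vec, opp, List.getD_eq_getElem?_getD, hp]

theorem orbit_first (k : Fin 891) : pr (x₁ k) ∈ MulAction.orbit H (pr (x₁ ⟨po 0, (of_decide_eq_true
    (by have := pl_spec (show (0 : ℕ) < 891 by norm_num); rw [plB, Bool.and_eq_true] at this; exact this.1))⟩)) := by
  suffices h : ∀ i, ∀ hi : i < 891, ∀ hk : po i < 891,
      pr (x₁ ⟨po i, hk⟩) ∈ MulAction.orbit H (pr (x₁ ⟨po 0, (of_decide_eq_true
        (by have := pl_spec (show (0 : ℕ) < 891 by norm_num); rw [plB, Bool.and_eq_true] at this; exact this.1))⟩)) by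
    obtain ⟨i, hi, e⟩ := pl_cover k.2
    have := h i hi (e ▸ k.2)
    simpa [e] using this
  intro i
  induction i using Nat.strong_induction_on with
  | _ i ih =>
    intro hi hk
    rcases Nat.eq_zero_or_pos i with rfl | hpos
    · exact MulAction.mem_orbit_self _
    have h := pl_spec hi
    simp only [plB, Bool.and_eq_true, Bool.or_eq_true, beq_iff_eq, decide_eq_true_eq] at h
    obtain ⟨⟨hg, hp⟩, he⟩ := h.2.resolve_left (by omega)
    have hpp : po (pp i) < 891 := by
      have := pl_spec (show pp i < 891 by omega)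
      simp only [plB, Bool.and_eq_true, decide_eq_true_eq] at this
      exact this.1
    have hprev := ih (pp i) hp (by omega) hpp
    set g : Fin 6 := ⟨pg i, hg⟩
    have hmove : gA g • pr (x₁ ⟨po (pp i), hpp⟩) = pr (x₁ ⟨po i, hk⟩) := by
      rw [smul_pr]
      congr 1
      show gC g • -Lv ⟨po (pp i), hpp⟩ = -Lv ⟨po i, hk⟩
      rw [smul_neg']
      congr 1
      apply Subtype.ext
      have hl := allB_spec lv_lat (po (pp i)) hpp
      rw [Bool.and_eq_true, beq_iff_eq] at hl
      have hm : mapL (lv (po (pp i))) (gm (pg i)) = (lv (po i)).map fun x => 8 * x := by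
        have := beq_iff_eq.1 (allB_spec (vec_moves hg) (po (pp i)) hpp)
        rwa [he] at this
      exact smul_list (gens_spec g).1 hl.1 hm _ rfl
    rw [← hmove]
    obtain ⟨a, ha⟩ := hprev
    exact ⟨⟨gA g, gA_mem g⟩ * a, by rw [← ha]; exact mul_smul _ a _⟩

theorem orbit_second (j : Fin 1408) :
    pr (x₂ j) ∈ MulAction.orbit H (pr (x₂ ⟨0, by norm_num⟩)) := by
  obtain ⟨j, hj⟩ := j
  induction j using Nat.strong_induction_on with
  | _ j ih =>
    rcases Nat.eq_zero_or_pos j with rfl | hpos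
    · exact MulAction.mem_orbit_self _
    obtain ⟨hg, hp, he⟩ := (sv_props hj).2.2.2.2.2.2.2 (by omega)
    have hpj : sp j < 1408 := by omega
    obtain ⟨a, ha⟩ := ih (sp j) hp hpj
    set g : Fin 6 := ⟨sg j, hg⟩
    have hmove : gA g • pr (x₂ ⟨sp j, hpj⟩) = pr (x₂ ⟨j, hj⟩) := by
      rw [smul_pr]
      rcases he with he | he
      · congr 1
        exact Subtype.ext (smul_list (gens_spec g).1 (sv_props hpj).1 he _ rfl)
      · rw [← pr_opp (x₂ ⟨j, hj⟩)]
        congr 1
        apply Subtype.ext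
        rw [show ((gA g • x₂ ⟨sp j, hpj⟩ : leechLattice) : Vec) = lvec (opp (sv j)) from
          smul_list (gens_spec g).1 (sv_props hpj).1 he _ rfl, opp_vec]
        rfl
    rw [← hmove]
    exact ⟨⟨gA g, gA_mem g⟩ * a, by rw [← ha]; exact mul_smul _ a _⟩

theorem list_eq {l l' : List ℤ} (hl : l.length = 24) (hl' : l'.length = 24) (e : lvec l = lvec l') :
    l = l' := by
  refine List.ext_getElem (by rw [hl, hl']) fun i h1 h2 => ?_
  have h := congrFun e (pt i)
  simp only [Gens.vec, ix_pt (hl ▸ h1 : i < 24)] at h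
  rwa [List.getD_eq_getElem _ _ h1, List.getD_eq_getElem _ _ h2] at h

theorem pr_first_injective : Function.Injective fun k => pr (x₁ k) := by
  intro a b e
  have h : x₁ a ∈ pr (x₁ b) := by
    have e' : pr (x₁ a) = pr (x₁ b) := e
    rw [← e']; exact Set.mem_insert _ _
  rcases h with h | h
  · exact Lv_injective (neg_injective h)
  · exfalso
    have e' := congrArg (fun z : leechLattice => dotInt (ww : Vec) (z : Vec)) h
    simp only [dot_opp] at e'
    have key : ∀ k, dotInt (ww : Vec) ((x₁ k : leechLattice) : Vec) = 0 := fun k => by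
      have := allB_spec lv_dots k k.2
      simp only [Bool.and_eq_true, beq_iff_eq] at this
      rw [show ((x₁ k : leechLattice) : Vec) = -lvec (lv k) from rfl, dot_neg]
      show -dotInt (lvec wL) (lvec (lv k)) = 0
      rw [dot_lvec, this.1.2, neg_zero]
    rw [key, key, dot_comm, dot_vw.2.2] at e'
    omega

theorem pr_second_injective : Function.Injective fun i : Fin 1408 =>
    pr (x₂ ⟨so i, (sv_props i.2).2.2.2.2.2.1⟩) := by
  have mono : ∀ i j : ℕ, i < j → j < 1408 → pairKey (sv (so i)) < pairKey (sv (so j)) := by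
    intro i j hij
    induction hij with
    | refl => exact fun hj => by simpa using (sv_props hj).2.2.2.2.2.2.1 (by omega)
    | @step m hm ih =>
      exact fun hj => lt_trans (ih (by omega)) (by simpa using (sv_props hj).2.2.2.2.2.2.1 (by omega))
  intro a b e
  have hla := (sv_props (sv_props a.2).2.2.2.2.2.1).1
  have hlb := (sv_props (sv_props b.2).2.2.2.2.2.1).1
  have hop : ∀ l : List ℤ, (opp l).length = 24 := fun l => by simp [opp]
  have hkey : pairKey (sv (so a)) = pairKey (sv (so b)) := by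
    have hoo : ∀ l : List ℤ, l.length = 24 → opp (opp l) = l := fun l hl => by
      refine list_eq (hop _) hl ?_
      rw [opp_vec, opp_vec, sub_sub_cancel]
    have h : x₂ ⟨so a, (sv_props a.2).2.2.2.2.2.1⟩ ∈ pr (x₂ ⟨so b, (sv_props b.2).2.2.2.2.2.1⟩) :=
      by
      have e' : pr (x₂ ⟨so a, (sv_props a.2).2.2.2.2.2.1⟩) = pr (x₂ ⟨so b, (sv_props b.2).2.2.2.2.2.1⟩) := e
      rw [← e']; exact Set.mem_insert _ _
    rcases h with h | h
    · rw [list_eq hla hlb (congrArg Subtype.val h)]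
    · have h' : sv (so a) = opp (sv (so b)) :=
        list_eq hla (hop _) (by rw [opp_vec]; exact congrArg Subtype.val h)
      rw [h', pairKey, pairKey, hoo _ hlb, min_comm]
  rcases lt_trichotomy (a : ℕ) b with h | h | h
  · exact absurd hkey (ne_of_lt (mono _ _ h b.2))
  · exact Fin.ext h
  · exact absurd hkey (ne_of_gt (mono _ _ h a.2))

theorem pr_mem_orbit {x : leechLattice} (hx : sqNorm (x : Vec) = 32)
    (hd : dotInt (vv : Vec) (x : Vec) = -16) : pr x ∈ MulAction.orbit A (pr ww) := by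
  obtain ⟨g, g1, g2⟩ := Pairs.trans_pairs vv ww vv x dot_vw.1 dot_vw.2.1 dot_vw.1 hx
    (Or.inr (by rw [dot_vw.2.2]; rfl)) (hd.trans dot_vw.2.2.symm)
  refine ⟨⟨g, g1⟩, ?_⟩
  show (⟨g, g1⟩ : A) • pr ww = pr x
  rw [smul_pr]
  congr 1

theorem index_H : H.index = 2300 := by
  classical
  rw [MulAction.index_stabilizer]
  set S := Moments.short.filter fun w : leechLattice => dotInt (vv : Vec) (w : Vec) = -16 with hS
  have mS : ∀ x, x ∈ S ↔ sqNorm (x : Vec) = 32 ∧ dotInt (vv : Vec) (x : Vec) = -16 := fun x => by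
    rw [hS, Finset.mem_filter, Moments.mem_short]
  have opS : ∀ x ∈ S, -vv - x ∈ S ∧ -vv - x ≠ x := fun x hx => by
    obtain ⟨h1, h2⟩ := (mS x).1 hx
    have hd : dotInt (vv : Vec) ((-vv - x : leechLattice) : Vec) = -16 := by
      rw [dot_opp, h2, ← sqNorm_eq_dot, dot_vw.1]; norm_num
    refine ⟨(mS _).2 ⟨?_, hd⟩, fun e => ?_⟩
    · rw [sqNorm_eq_dot, dot_opp, dot_comm _ (vv : Vec), hd, dot_comm, dot_opp, dot_comm (x : Vec), h2,
        ← sqNorm_eq_dot, h1]
      norm_num
    · have e' := congrArg (fun z : leechLattice => dotInt (x : Vec) (z : Vec)) e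
      simp only [dot_opp, dot_comm (x : Vec) (vv : Vec), h2, ← sqNorm_eq_dot, h1] at e'
      norm_num at e'
  have horb : MulAction.orbit A (pr ww) = ↑(S.image pr) := by
    ext u
    simp only [Finset.coe_image, Set.mem_image, Finset.mem_coe]
    constructor
    · rintro ⟨g, rfl⟩
      refine ⟨g • ww, (mS _).2 ⟨(sqNorm_smul (g : Co0) ww).trans dot_vw.2.1, ?_⟩, (smul_pr g ww).symm⟩
      show dotInt (vv : Vec) (((g : Co0) • ww : leechLattice) : Vec) = -16
      conv_lhs => rw [← show (g : Co0) • vv = vv from g.2]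
      rw [dot_smul, dot_vw.2.2]
    · rintro ⟨x, hx, rfl⟩
      exact pr_mem_orbit ((mS x).1 hx).1 ((mS x).1 hx).2
  have h4600 : S.card = 4600 := (Moments.cnt_neg (vv : Vec) 16).trans (Moments.census32 dot_vw.1).1
  have h2 : S.card = (S.image pr).card * 2 := by
    rw [Finset.card_eq_sum_card_image pr S, Finset.sum_const_nat]
    intro u hu
    obtain ⟨x, hx, rfl⟩ := Finset.mem_image.1 hu
    rw [show (S.filter fun y => pr y = pr x) = {x, -vv - x} from ?_,
      Finset.card_pair (opS x hx).2.symm]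
    ext y
    simp only [Finset.mem_filter, Finset.mem_insert, Finset.mem_singleton]
    constructor
    · rintro ⟨-, e⟩
      exact (e ▸ Set.mem_insert y _ : y ∈ pr x)
    · rintro (rfl | rfl)
      exacts [⟨hx, rfl⟩, ⟨(opS x hx).1, pr_opp x⟩]
  rw [horb, Set.ncard_coe_finset]
  omega

set_option maxHeartbeats 1000000 in
/-- The statement for the stabiliser of the first vertex. -/
theorem rank_three : ∃ K : Subgroup A, IsCoatom K ∧ K.index = 2300 ∧
    ∃ q₁ q₂ : A ⧸ K, (MulAction.orbit K q₁).ncard = 891 ∧ (MulAction.orbit K q₂).ncard = 1408 := by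
  haveI := Cross.finite_Co0
  let ψ : A ⧸ H → Set leechLattice := MulAction.ofQuotientStabilizer A (pr ww)
  have hψ : Function.Injective ψ := MulAction.injective_ofQuotientStabilizer A (pr ww)
  have hψs : ∀ (h : H) (q : A ⧸ H), ψ (h • q) = h • ψ q := fun h q =>
    MulAction.ofQuotientStabilizer_smul A (pr ww) (h : A) q
  have himg : ∀ q, ψ '' MulAction.orbit H q = MulAction.orbit H (ψ q) := fun q => by
    ext u
    constructor
    · rintro ⟨_, ⟨h, rfl⟩, rfl⟩; exact ⟨h, (hψs h q).symm⟩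
    · rintro ⟨h, rfl⟩; exact ⟨h • q, ⟨h, rfl⟩, hψs h q⟩
  have hcard : Nat.card (A ⧸ H) = 2300 := index_H
  -- the base point
  set q₀ : A ⧸ H := ((1 : A) : A ⧸ H)
  have hq₀ : ψ q₀ = pr ww := one_smul _ _
  have h₀ : MulAction.orbit H q₀ = {q₀} := by
    refine Set.eq_singleton_iff_unique_mem.2 ⟨MulAction.mem_orbit_self _, ?_⟩
    rintro _ ⟨h, rfl⟩
    apply hψ
    rw [hψs, hq₀]
    exact h.2
  -- the two classes
  have hcls₁ : ∀ k, sqNorm ((x₁ k : leechLattice) : Vec) = 32 ∧
      dotInt (vv : Vec) ((x₁ k : leechLattice) : Vec) = -16 ∧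
      dotInt (ww : Vec) ((x₁ k : leechLattice) : Vec) = 0 := fun k => by
    have := allB_spec lv_dots k k.2
    simp only [Bool.and_eq_true, beq_iff_eq] at this
    rw [show ((x₁ k : leechLattice) : Vec) = -lvec (lv k) from rfl, dot_neg, dot_neg, sqNorm_eq_dot,
      dot_neg, dot_comm, dot_neg, neg_neg]
    show dotInt (lvec (lv k)) (lvec (lv k)) = 32 ∧ -dotInt (lvec vL) (lvec (lv k)) = -16 ∧
      -dotInt (lvec wL) (lvec (lv k)) = 0
    rw [dot_lvec, dot_lvec, dot_lvec, this.1.1, this.1.2, this.2]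
    norm_num
  have hcls₂ : ∀ j, sqNorm ((x₂ j : leechLattice) : Vec) = 32 ∧
      dotInt (vv : Vec) ((x₂ j : leechLattice) : Vec) = -16 ∧
      dotInt (ww : Vec) ((x₂ j : leechLattice) : Vec) = 8 := fun j => by
    obtain ⟨-, -, h3, h4, h5, -⟩ := sv_props j.2
    rw [sqNorm_eq_dot]
    show dotInt (lvec (sv j)) (lvec (sv j)) = 32 ∧ dotInt (lvec vL) (lvec (sv j)) = -16 ∧
      dotInt (lvec wL) (lvec (sv j)) = 8
    rw [dot_lvec, dot_lvec, dot_lvec]
    exact ⟨h5, h4, h3⟩
  have lift : ∀ x : leechLattice, sqNorm (x : Vec) = 32 → dotInt (vv : Vec) (x : Vec) = -16 →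
      ∃ q, ψ q = pr x := fun x h1 h2 => by
    obtain ⟨g, hg⟩ := pr_mem_orbit h1 h2
    exact ⟨(g : A ⧸ H), hg⟩
  set k₀ : Fin 891 := ⟨po 0, of_decide_eq_true (by
    have := pl_spec (show (0 : ℕ) < 891 by norm_num); rw [plB, Bool.and_eq_true] at this; exact this.1)⟩
  set j₀ : Fin 1408 := ⟨0, by norm_num⟩
  obtain ⟨q₁, hq₁⟩ := lift (x₁ k₀) (hcls₁ _).1 (hcls₁ _).2.1
  obtain ⟨q₂, hq₂⟩ := lift (x₂ j₀) (hcls₂ _).1 (hcls₂ _).2.1
  have hm₀ : ¬ Meets (pr ww) := by
    have e0 : dotInt (ww : Vec) (vv : Vec) = -16 := (dot_comm _ _).trans dot_vw.2.2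
    have e1 : dotInt (ww : Vec) (ww : Vec) = 32 := (sqNorm_eq_dot _).symm.trans dot_vw.2.1
    have e2 : dotInt (vv : Vec) (vv : Vec) = 32 := (sqNorm_eq_dot _).symm.trans dot_vw.1
    rintro ⟨a, ha | ha, z, hz | hz, e⟩ <;> subst ha <;> subst hz
    · omega
    · simp only [dot_opp, e0, e1] at e; omega
    · simp only [dot_opp_left, dot_vw.2.2, e1] at e; omega
    · simp only [dot_opp, dot_opp_left, dot_vw.2.2, e0, e1, e2] at e
      omega
  have hm₁ : Meets (pr (x₁ k₀)) :=
    ⟨ww, Set.mem_insert _ _, x₁ k₀, Set.mem_insert _ _, (hcls₁ k₀).2.2⟩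
  have hm₂ : ¬ Meets (pr (x₂ j₀)) := by
    obtain ⟨-, c1, c2⟩ := hcls₂ j₀
    have e0 : dotInt (ww : Vec) (vv : Vec) = -16 := (dot_comm _ _).trans dot_vw.2.2
    have e2 : dotInt (vv : Vec) (vv : Vec) = 32 := (sqNorm_eq_dot _).symm.trans dot_vw.1
    rintro ⟨a, ha | ha, z, hz | hz, e⟩ <;> subst ha <;> subst hz
    · omega
    · simp only [dot_opp, e0, c2] at e; omega
    · simp only [dot_opp_left, c1, c2] at e; omega
    · simp only [dot_opp, dot_opp_left, e2, e0, c1, c2] at e
      omega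
  -- lower bounds
  have n₁ : 891 ≤ (MulAction.orbit H q₁).ncard := by
    rw [← Set.ncard_image_of_injective _ hψ, himg, hq₁]
    calc 891 = (Set.range fun k => pr (x₁ k)).ncard := by
          rw [Set.ncard_range_of_injective pr_first_injective]; simp
      _ ≤ _ := Set.ncard_le_ncard (Set.range_subset_iff.2 orbit_first) (Set.finite_range _)
  have n₂ : 1408 ≤ (MulAction.orbit H q₂).ncard := by
    rw [← Set.ncard_image_of_injective _ hψ, himg, hq₂]
    calc 1408 = (Set.range fun i : Fin 1408 => pr (x₂ ⟨so i, (sv_props i.2).2.2.2.2.2.1⟩)).ncard := by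
          rw [Set.ncard_range_of_injective pr_second_injective, Nat.card_fin]
      _ ≤ _ := Set.ncard_le_ncard (Set.range_subset_iff.2 fun i => orbit_second _) (Set.finite_range _)
  -- disjointness
  have hmeet : ∀ {q q' : A ⧸ H}, q' ∈ MulAction.orbit H q → (Meets (ψ q') ↔ Meets (ψ q)) :=
    fun {q q'} h => meets_orbit (himg q ▸ Set.mem_image_of_mem ψ h)
  have d₁ : Disjoint (MulAction.orbit H q₁) (MulAction.orbit H q₂) :=
    Set.disjoint_left.2 fun q h1 h2 => hm₂ (hq₂ ▸ (hmeet h2).1 ((hmeet h1).2 (hq₁ ▸ hm₁)))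
  have d₀ : q₀ ∉ MulAction.orbit H q₁ ∪ MulAction.orbit H q₂ := by
    rintro (h | h)
    · exact hm₀ (hq₀ ▸ (hmeet h).2 (hq₁ ▸ hm₁))
    · have : MulAction.orbit H q₂ = {q₀} := by rw [← h₀, MulAction.orbit_eq_iff]; exact MulAction.mem_orbit_symm.1 h
      rw [this, Set.ncard_singleton] at n₂
      omega
  have hle : (MulAction.orbit H q₁ ∪ MulAction.orbit H q₂).ncard < 2300 := by
    rw [← hcard, ← Set.ncard_univ]
    exact Set.ncard_lt_ncard (Set.ssubset_univ_iff.2 fun h => d₀ (h ▸ Set.mem_univ _)) (Set.toFinite _)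
  rw [Set.ncard_union_eq d₁ (Set.toFinite _) (Set.toFinite _)] at hle
  refine ⟨H, ⟨fun h => ?_, fun K hK => ?_⟩, index_H, q₁, q₂, by omega, by omega⟩
  · have := index_H
    rw [h, Subgroup.index_top] at this
    omega
  -- maximality
  have hu : {q₀} ∪ (MulAction.orbit H q₁ ∪ MulAction.orbit H q₂) = Set.univ := by
    refine Set.eq_univ_of_subset Set.Subset.rfl ?_
    apply Set.eq_of_subset_of_ncard_le (Set.subset_univ _) _ (Set.toFinite _)
    rw [Set.ncard_univ, hcard, Set.ncard_union_eq (Set.disjoint_singleton_left.2 d₀) (Set.toFinite _) (Set.toFinite _),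
      Set.ncard_singleton, Set.ncard_union_eq d₁ (Set.toFinite _) (Set.toFinite _)]
    omega
  set T : Set (A ⧸ H) := (fun g : A => (g : A ⧸ H)) '' K with hT
  have hTmem : ∀ g : A, (g : A ⧸ H) ∈ T ↔ g ∈ K := fun g => by
    refine ⟨fun ⟨k, hk, e⟩ => ?_, fun hg => ⟨g, hg, rfl⟩⟩
    have := mul_mem hk (hK.le (QuotientGroup.eq.1 e))
    rwa [mul_inv_cancel_left] at this
  have hinv : ∀ q ∈ T, MulAction.orbit H q ⊆ T := by
    rintro _ ⟨k, hk, rfl⟩ _ ⟨h, rfl⟩
    exact ⟨(h : A) * k, mul_mem (hK.le h.2) hk, rfl⟩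
  have hTK : Nat.card H * T.ncard ≤ Nat.card K := by
    rw [← Nat.card_coe_set_eq, ← Nat.card_prod, ← Nat.card_congr (QuotientGroup.preimageMkEquivSubgroupProdSet H T)]
    exact Nat.card_le_card_of_injective (fun g => (⟨g.1, (hTmem g.1).1 g.2⟩ : K))
      fun a b e => Subtype.ext (congrArg (fun x : K => (x : A)) e)
  have h₁T : q₀ ∈ T := (hTmem 1).2 K.one_mem
  obtain ⟨g, hgK, hgH⟩ := SetLike.exists_of_lt hK
  have hne : (g : A ⧸ H) ≠ q₀ := fun e => hgH (by simpa using QuotientGroup.eq.1 e.symm)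
  have hsub : MulAction.orbit H q₁ ⊆ T ∨ MulAction.orbit H q₂ ⊆ T := by
    have := hu ▸ Set.mem_univ (g : A ⧸ H)
    rcases this with h | h | h
    · exact absurd h hne
    · exact Or.inl (MulAction.orbit_eq_iff.2 h ▸ hinv _ ((hTmem g).2 hgK))
    · exact Or.inr (MulAction.orbit_eq_iff.2 h ▸ hinv _ ((hTmem g).2 hgK))
  rw [← Subgroup.index_eq_one]
  have hbig : 892 ≤ T.ncard := by
    rcases hsub with h | h
    · calc 892 ≤ (insert q₀ (MulAction.orbit H q₁)).ncard := by
            rw [Set.ncard_insert_of_notMem (fun h' => d₀ (Or.inl h')) (Set.toFinite _)]; omega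
        _ ≤ _ := Set.ncard_le_ncard (Set.insert_subset h₁T h) (Set.toFinite _)
    · calc 892 ≤ (insert q₀ (MulAction.orbit H q₂)).ncard := by
            rw [Set.ncard_insert_of_notMem (fun h' => d₀ (Or.inr h')) (Set.toFinite _)]; omega
        _ ≤ _ := Set.ncard_le_ncard (Set.insert_subset h₁T h) (Set.toFinite _)
  have h2 : K.index ≤ 2 := by
    have e1 := H.card_mul_index
    have e2 := K.card_mul_index
    rw [index_H] at e1
    have hpos : 0 < Nat.card H := Nat.card_pos
    by_contra hc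
    have : Nat.card H * 892 * 3 ≤ Nat.card K * K.index :=
      Nat.mul_le_mul (le_trans (Nat.mul_le_mul_left _ hbig) hTK) (by omega)
    rw [e2, ← e1, mul_assoc (Nat.card H)] at this
    have := Nat.le_of_mul_le_mul_left this hpos
    omega
  rcases (show K.index = 0 ∨ K.index = 1 ∨ K.index = 2 by omega) with h | h | h
  · exact absurd h Subgroup.index_ne_zero_of_finite
  · exact h
  · exfalso
    haveI : IsSimpleGroup A := (Conway23.isCo2 vv dot_vw.1).1
    haveI := Subgroup.normal_of_index_eq_two h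
    rcases (inferInstance : K.Normal).eq_bot_or_eq_top with hb | ht
    · exact hgH (by rw [(Subgroup.mem_bot.1 (hb ▸ hgK : g ∈ (⊥ : Subgroup A)))]; exact H.one_mem)
    · rw [ht, Subgroup.index_top] at h
      omega

end Cfsg.Agent.Co2Type.Rank3
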